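import Cfsg.Agent.GWDihedral.Conditional
import Cfsg.Agent.GWDihedral.Chars.Specs

/-!
# The Gorenstein–Walter theorem for simple groups with dihedral Sylow 2-subgroups
-/

set_option autoImplicit false

namespace Cfsg.Lib.GWD

universe u

/-- A simple group with dihedral Sylow 2-subgroups is `PSL(2, q)`, `q ≥ 5` odd, or `A₇`. -/
theorem dihedralProp : DihedralProp.{u} := dihedralProp_of_chars Chr.charSpecs

end Cfsg.Lib.GWD
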