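import Cfsg.Agent.GWDihedral.Maximal.SFour
import Cfsg.Agent.FourGroupGW.Main
import Cfsg.Agent.GenDihedral.CoreThm

/-!
Simple groups with dihedral Sylow 2-subgroups: assembly of the pieces.
-/

set_option autoImplicit false
set_option linter.unusedSectionVars false
set_option linter.style.haveILetI false

namespace Cfsg.Lib.GWD

open Subgroup

universe u

variable {G : Type u} [Group G] [Finite G]

namespace Frame

variable (F : Frame G)

/-- The pieces give `W₁ = 1` for the four-group with the smaller centraliser in `O`. -/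
theorem W_eq_bot (hle : F.w₁ ≤ F.w₂) (hC : IsCoatom F.C) (hMixed : F.NoMixed) (hInv : F.NoInverted)
    (hKill : F.LinearKill) : F.four₁.W = ⊥ := by
  by_contra hW
  refine hW (hKill hle hC (F.four₁.isMulCommutative_T (fun p hS => ?_) fun p => (hMixed hle hW hC p).2))
  exact (hMixed hle hW hC p).1 (hInv hle hW hC p hS)

/-- With `W₁ = 1` the reflection `r` inverts `O`, which is abelian. -/
theorem inv_of_W_eq_bot (hW : F.four₁.W = ⊥) {x : G} (hx : x ∈ F.O) : F.r * x * F.r⁻¹ = x⁻¹ := by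
  obtain ⟨a, ha, b, hb, hafix, hbinv, rfl⟩ :=
    Cfsg.Lib.GW.Frame.exists_fixed_mul_inverted F.odd_card_O F.four₁.u_sq
      (F.four₁.U_le_normalizer_O F.four₁.u_mem_U) hx
  have ha1 : a = 1 := by
    have : a ∈ F.four₁.W := F.four₁.mem_W.2 ⟨ha, (mul_inv_eq_iff_eq_mul.1 hafix).symm⟩
    rwa [hW, mem_bot] at this
  rw [ha1, one_mul]
  exact hbinv

theorem O_comm (hW : F.four₁.W = ⊥) {a b : G} (ha : a ∈ F.O) (hb : b ∈ F.O) : a * b = b * a := by
  have := F.inv_of_W_eq_bot hW (mul_mem ha hb)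
  rw [← conj_mul, F.inv_of_W_eq_bot hW ha, F.inv_of_W_eq_bot hW hb, ← mul_inv_rev, inv_inj] at this
  exact this.symm

/-- With `W₁ = 1` and `C` maximal also `W₂ = 1`. -/
theorem W₂_eq_bot (hm : Minimal G) (hC : IsCoatom F.C) (hW : F.four₁.W = ⊥) : F.four₂.W = ⊥ := by
  haveI := hm.simple
  have hrinv : F.r⁻¹ = F.r := F.four₁.u_inv
  -- `s` inverts what `r * s` fixes
  have key : ∀ x ∈ F.four₂.W, F.s * x * F.s⁻¹ = x⁻¹ ∧ F.r * x * F.r⁻¹ = x⁻¹ := by
    intro x hx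
    obtain ⟨hxO, hxu⟩ := F.four₂.mem_W.1 hx
    change x * (F.r * F.s) = F.r * F.s * x at hxu
    have hr := F.inv_of_W_eq_bot hW hxO
    refine ⟨?_, hr⟩
    have h : F.r * (F.s * x * F.s⁻¹) * F.r⁻¹ = x := by
      rw [show F.r * (F.s * x * F.s⁻¹) * F.r⁻¹ = F.r * F.s * x * (F.r * F.s)⁻¹ by group, ← hxu,
        mul_inv_cancel_right]
    have h' : F.r * (F.r * (F.s * x * F.s⁻¹) * F.r⁻¹) * F.r⁻¹ = F.r * x * F.r⁻¹ := by rw [h]
    rw [show F.r * (F.r * (F.s * x * F.s⁻¹) * F.r⁻¹) * F.r⁻¹ =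
      (F.r * F.r) * (F.s * x * F.s⁻¹) * (F.r * F.r)⁻¹ by group, F.four₁.u_sq, one_mul, inv_one, mul_one,
      hr] at h'
    exact h'
  have hgen : ∀ g : G, (∀ x ∈ F.four₂.W, g * x * g⁻¹ = x⁻¹) → g ∈ normalizer (F.four₂.W : Set G) := by
    intro g hg
    refine mem_normalizer_iff.2 fun x => ⟨fun hx => hg x hx ▸ inv_mem hx, fun hx => ?_⟩
    have e := hg _ hx
    have hx' : g * (g * x * g⁻¹)⁻¹ * g⁻¹ = g * x * g⁻¹ := by rw [hg _ (inv_mem hx), inv_inv]
    rw [← (MulAut.conj g).injective hx']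
    exact inv_mem hx
  have hN : F.C ≤ normalizer (F.four₂.W : Set G) := by
    rw [F.C_eq]
    refine sup_le (fun a ha => ?_) ((closure_le _).2 ?_)
    · refine mem_normalizer_iff.2 fun x => ?_
      have hfix : ∀ y ∈ F.four₂.W, a * y * a⁻¹ = y := fun y hy =>
        mul_inv_eq_iff_eq_mul.2 (F.O_comm hW ha (F.four₂.W_le hy))
      refine ⟨fun hx => (hfix x hx).symm ▸ hx, fun hx => ?_⟩
      have e : a * (a * x * a⁻¹) * a⁻¹ = a * x * a⁻¹ := hfix _ hx
      rw [← (MulAut.conj a).injective e]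
      exact hx
    · rintro z (rfl | rfl)
      · exact hgen _ fun x hx => (key x hx).1
      · exact hgen _ fun x hx => (key x hx).2
  have hσ : F.σ₂ ∈ normalizer (F.four₂.W : Set G) := σ_mem_normalizer_W F.four₂ hm
  rcases eq_or_ne (normalizer (F.four₂.W : Set G)) ⊤ with h | h
  swap
  · exact absurd ((hC.le_iff_eq h).1 hN ▸ hσ) F.σ₂_not_mem_C
  haveI : (F.four₂.W).Normal := normalizer_eq_top_iff.1 h
  rcases hm.simple.eq_bot_or_eq_top_of_normal _ this with e | e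
  · exact e
  · exfalso
    have h1 := F.four₂.odd_card_W
    rw [e] at h1
    have h2 : (2 : ℕ) ∣ Nat.card (⊤ : Subgroup G) := by
      rw [Subgroup.card_top, ← F.r_order]; exact orderOf_dvd_natCard F.r
    exact absurd (even_iff_two_dvd.2 h2) (Nat.not_even_iff_odd.2 h1)

/-- With both `Wᵢ = 1` the centraliser of `t` is generalised dihedral and the group is a `PSL₂`. -/
theorem isDihType_of_W (hm : Minimal G) (hW₁ : F.four₁.W = ⊥) (hW₂ : F.four₂.W = ⊥) : IsDihType G := by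
  haveI := hm.simple
  haveI : Fact (Nat.Prime 2) := ⟨Nat.prime_two⟩
  have hinv : ∀ x ∈ F.O, F.r * x * F.r⁻¹ = x⁻¹ := fun x hx => F.inv_of_W_eq_bot hW₁ hx
  have hrs : ∀ x ∈ F.O, F.r * F.s * x * (F.r * F.s)⁻¹ = x⁻¹ := fun x hx =>
    F.flip.inv_of_W_eq_bot hW₂ hx
  have hsO : ∀ x ∈ F.O, F.s * x = x * F.s := by
    intro x hx
    have h := hrs x hx
    rw [show F.r * F.s * x * (F.r * F.s)⁻¹ = F.r * (F.s * x * F.s⁻¹) * F.r⁻¹ by group, ← hinv x hx] at h
    exact mul_inv_eq_iff_eq_mul.1 ((MulAut.conj F.r).injective h)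
  set A : Subgroup G := F.O ⊔ zpowers F.s with hA
  have hsC : zpowers F.s ≤ F.C := zpowers_le.2 (F.S_le_C F.s_mem_S)
  have hAC : A ≤ F.C := sup_le F.O_le hsC
  have hmem : ∀ x ∈ A, ∃ a ∈ F.O, ∃ i : ℤ, x = a * F.s ^ i := by
    intro x hx
    obtain ⟨a, ha, b, hb, rfl⟩ :=
      (Cfsg.Lib.Coprime.mem_sup_of_le_normalizer (hsC.trans F.C_le_normalizer_O)).1 hx
    obtain ⟨i, rfl⟩ := mem_zpowers_iff.1 hb
    exact ⟨a, ha, i, rfl⟩
  have hsc : ∀ x ∈ F.O, ∀ i : ℤ, F.s ^ i * x = x * F.s ^ i := fun x hx i =>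
    ((show Commute F.s x from hsO x hx).zpow_left i).eq
  have hAcomm : ∀ a ∈ A, ∀ b ∈ A, a * b = b * a := by
    intro x hx y hy
    obtain ⟨a, ha, i, rfl⟩ := hmem x hx
    obtain ⟨b, hb, j, rfl⟩ := hmem y hy
    calc a * F.s ^ i * (b * F.s ^ j) = a * (F.s ^ i * b) * F.s ^ j := by group
      _ = a * b * (F.s ^ i * F.s ^ j) := by rw [hsc b hb]; group
      _ = b * a * (F.s ^ j * F.s ^ i) := by rw [F.O_comm hW₁ ha hb, ← zpow_add, ← zpow_add, add_comm]
      _ = b * (a * F.s ^ j) * F.s ^ i := by group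
      _ = b * F.s ^ j * (a * F.s ^ i) := by rw [← hsc a ha j]; group
  have htA : F.t ∈ A := mem_sup_right (pow_mem (mem_zpowers F.s) _)
  have hrA : F.r ∉ A := by
    intro h
    have hc : F.r * F.s = F.s * F.r := hAcomm _ h _ (mem_sup_right (mem_zpowers _))
    have h' := F.rel
    rw [hc, mul_inv_cancel_right] at h'
    have h2 : F.s ^ 2 = 1 := by rw [pow_two]; exact mul_eq_one_iff_eq_inv.2 h'
    have := Nat.le_of_dvd two_pos (orderOf_dvd_of_pow_eq_one h2)
    rw [F.s_order] at this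
    have h3 := F.three_le
    have := Nat.pow_le_pow_right two_pos (show 2 ≤ F.n - 1 by omega)
    omega
  have hAinv : ∀ a ∈ A, F.r * a * F.r⁻¹ = a⁻¹ := by
    intro x hx
    obtain ⟨a, ha, i, rfl⟩ := hmem x hx
    rw [← conj_mul, hinv a ha, ← conj_zpow, F.rel, inv_zpow, ← mul_inv_rev, hsc a ha]
  have hout : ∀ x ∈ F.C, x ∉ A → x * F.r ∈ A := by
    intro x hx hxA
    obtain ⟨l, hl, w, hw, rfl⟩ := F.C_structure x hx
    rcases F.S_cases hw with h | h
    · exact absurd (mul_mem (mem_sup_left hl) (mem_sup_right h)) hxA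
    · rw [mul_assoc]; exact mul_mem (mem_sup_left hl) (mem_sup_right h)
  have hH : Cfsg.Lib.GenDihedral.Hyp F.t A := by
    refine ⟨F.t_order, htA, hAC, hAcomm, ?_, ?_, ?_, ?_⟩
    · rw [relIndex, index_eq_two_iff]
      refine ⟨⟨F.r, F.S_le_C F.r_mem_S⟩, fun x => ?_⟩
      rw [Xor]
      by_cases hx : (x : G) ∈ A
      · refine Or.inr ⟨hx, fun h => hrA ?_⟩
        exact (A.mul_mem_cancel_left hx).1 (mem_subgroupOf.1 h)
      · exact Or.inl ⟨mem_subgroupOf.2 (hout x x.2 hx), hx⟩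
    · intro a ha ha2
      obtain ⟨l, hl, i, rfl⟩ := hmem a ha
      have hsq := Cfsg.Lib.GenDihedral.mul_self_of_two ha2
      have hll : l * l * (F.s ^ i * F.s ^ i) = 1 := by
        rw [show l * l * (F.s ^ i * F.s ^ i) = l * (l * F.s ^ i) * F.s ^ i by group, ← hsc l hl i]
        rw [show l * (F.s ^ i * l) * F.s ^ i = l * F.s ^ i * (l * F.s ^ i) by group]
        exact hsq
      have hin : l * l ∈ F.O ⊓ F.S :=
        ⟨mul_mem hl hl, mul_eq_one_iff_eq_inv.1 hll ▸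
          F.S.inv_mem (F.S.mul_mem (F.S.zpow_mem F.s_mem_S i) (F.S.zpow_mem F.s_mem_S i))⟩
      rw [F.O_inf_S, mem_bot] at hin
      have hl1 : l = 1 :=
        Cfsg.Lib.GenDihedral.eq_one_of_sq_of_odd hin (Cfsg.Lib.GW.Frame.odd_orderOf F.odd_card_O hl)
      subst hl1
      rw [one_mul] at ha2 ⊢
      rcases F.data.sq_zpowers (zpow_mem (mem_zpowers _) i) (Cfsg.Lib.GenDihedral.mul_self_of_two ha2) with e | e
      · rw [e, orderOf_one] at ha2; omega
      · rw [e, F.t_eq]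
    · intro x hx hxA
      have h := hout x hx hxA
      have h' := hAinv _ h
      rw [show F.r * (x * F.r) * F.r⁻¹ = F.r * x by group, mul_inv_rev, F.four₁.u_inv] at h'
      exact mul_eq_one_iff_eq_inv.2 (mul_left_cancel h')
    · rw [Nat.odd_iff, ← Nat.two_dvd_ne_zero]
      intro h
      exact F.sylow.not_dvd_index (h.trans (index_dvd_of_le (by rw [F.coe_sylow]; exact F.S_le_C)))
  have hns : ¬ Group.IsSolvable G := fun hs =>
    hm.nonab ⟨⟨fun a b => (IsSimpleGroup.comm_iff_isSolvable.2 hs) a b⟩⟩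
  obtain ⟨K, i1, i2, hodd, ⟨e⟩⟩ :=
    Cfsg.Lib.GenDihedral.Core.iso_psl (⟨hH, hm.simple, hns⟩ : Cfsg.Lib.GenDihedral.Core F.t A)
  refine Or.inl ⟨K, i1, i2, hodd, ?_, ⟨e⟩⟩
  obtain ⟨q, hq⟩ : ∃ q, Fintype.card K = q := ⟨_, rfl⟩
  have h1 := Fintype.one_lt_card (α := K)
  rw [hq] at hodd h1 ⊢
  by_contra hlt
  have hq3 : q = 3 := by rcases hodd with ⟨k, rfl⟩; omega
  have hc := Cfsg.Lib.Classical.SmallPSL.card_psl hq
  rw [← Nat.card_congr e.toEquiv, hq3] at hc
  have h8 : 8 ∣ Nat.card G := by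
    refine dvd_trans ?_ (Subgroup.card_subgroup_dvd_card F.S)
    rw [F.card_S]
    exact pow_dvd_pow 2 F.three_le
  norm_num at hc
  omega

/-- A minimal configuration is of known type, given the remaining pieces at a frame with `w₁ ≤ w₂`. -/
theorem isDihType_of_pieces (hm : Minimal G) (hle : F.w₁ ≤ F.w₂) (hMax : F.Maximal) (hMixed : F.NoMixed)
    (hInv : F.NoInverted) (hKill : F.LinearKill) : IsDihType G := by
  by_cases hW : F.four₁.W = ⊥ ∧ F.four₂.W = ⊥
  · exact F.isDihType_of_W hm hW.1 hW.2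
  rcases hMax (by tauto) with h | hC
  · exact h
  have h1 := F.W_eq_bot hle hC hMixed hInv hKill
  exact absurd ⟨h1, F.W₂_eq_bot hm hC h1⟩ hW

/-- The second four-group of the flipped frame is conjugate to the first. -/
theorem flip_w₂ : F.flip.w₂ = F.w₁ := by
  have e : F.flip.four₂.W.map (MulAut.conj F.s).toMonoidHom = F.four₁.W := by
    have hs : ∀ x, x ∈ F.O → F.s * x * F.s⁻¹ ∈ F.O := fun x hx =>
      (mem_normalizer_iff.1 (F.C_le_normalizer_O (F.S_le_C F.s_mem_S)) x).1 hx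
    have hu : F.s * (F.r * F.s * F.s) * F.s⁻¹ = F.r := by
      have h := F.rel
      rw [mul_inv_eq_iff_eq_mul] at h
      rw [show F.s * (F.r * F.s * F.s) * F.s⁻¹ = F.s * (F.r * F.s) by group, h, mul_inv_cancel_left]
    ext y
    constructor
    · rintro ⟨x, hx, rfl⟩
      obtain ⟨hxO, hxu⟩ := F.flip.four₂.mem_W.1 hx
      change x * (F.r * F.s * F.s) = F.r * F.s * F.s * x at hxu
      refine F.four₁.mem_W.2 ⟨hs x hxO, ?_⟩
      show F.s * x * F.s⁻¹ * F.r = F.r * (F.s * x * F.s⁻¹)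
      rw [← hu]
      exact conj_mul.trans ((congrArg (fun z => F.s * z * F.s⁻¹) hxu).trans conj_mul.symm)
    · intro hy
      obtain ⟨hyO, hyu⟩ := F.four₁.mem_W.1 hy
      change y * F.r = F.r * y at hyu
      refine ⟨F.s⁻¹ * y * F.s, F.flip.four₂.mem_W.2 ⟨?_, ?_⟩, by
        show F.s * (F.s⁻¹ * y * F.s) * F.s⁻¹ = y; group⟩
      · refine (mem_normalizer_iff.1 (F.C_le_normalizer_O (F.S_le_C F.s_mem_S)) _).2 ?_
        rwa [show F.s * (F.s⁻¹ * y * F.s) * F.s⁻¹ = y by group]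
      · show F.s⁻¹ * y * F.s * (F.r * F.s * F.s) = F.r * F.s * F.s * (F.s⁻¹ * y * F.s)
        refine (MulAut.conj F.s).injective ?_
        simp only [MulAut.conj_apply]
        rw [show ∀ a : G, F.s * (F.s⁻¹ * y * F.s * a) * F.s⁻¹ = y * (F.s * a * F.s⁻¹) from fun a => by group,
          show ∀ a : G, F.s * (a * (F.s⁻¹ * y * F.s)) * F.s⁻¹ = F.s * a * F.s⁻¹ * y from fun a => by group,
          hu, hyu]
  rw [Frame.w₁, ← e]
  exact (Nat.card_congr (F.flip.four₂.W.equivMapOfInjective _ (MulAut.conj F.s).injective).toEquiv)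

end Frame

/-- The dihedral theorem from the remaining pieces. -/
theorem dihedralProp_of_pieces
    (h : ∀ (G : Type u) [Group G] [Finite G] (F : Frame G), Minimal G →
      F.Maximal ∧ F.NoMixed ∧ F.NoInverted ∧ F.LinearKill) : DihedralProp.{u} := by
  refine dihedralProp_of_minimal Cfsg.Lib.GW.fourGroupProp fun G _ _ hm => ?_
  obtain ⟨F⟩ := nonempty_frame hm
  rcases le_total F.w₁ F.w₂ with hle | hle
  · obtain ⟨h1, h2, h3, h4⟩ := h G F hm
    exact F.isDihType_of_pieces hm hle h1 h2 h3 h4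
  · obtain ⟨h1, h2, h3, h4⟩ := h G F.flip hm
    exact F.flip.isDihType_of_pieces hm (by rw [F.flip_w₂]; exact hle) h1 h2 h3 h4

end Cfsg.Lib.GWD
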