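import Cfsg.Agent.GWDihedral.Setting
import Cfsg.Agent.GWDihedral.Ident.OddSections
import Cfsg.Agent.FourGroupGW.Basic
import Cfsg.Agent.S0107

/-!
Simple groups with dihedral Sylow 2-subgroups: elementary facts about a frame, and the existence of frames.
-/

set_option autoImplicit false
set_option linter.unusedSectionVars false
set_option linter.style.haveILetI false

namespace Cfsg.Lib.GWD

open Subgroup
open scoped Pointwise
open Cfsg.Lib.GW (Core core_le le_normalizer_core)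
open Cfsg.Lib.GenDihedral (mem_of_sq mul_self_of_two inv_of_two)

universe u

variable {G : Type u} [Group G] [Finite G]

theorem Minimal.pResidual_top (hm : Minimal G) : Cfsg.pResidual 2 G = ⊤ := by
  haveI : Fact (Nat.Prime 2) := ⟨Nat.prime_two⟩
  haveI := hm.simple
  have hN : (Cfsg.pResidual 2 G).Normal := by
    refine ⟨fun x hx g => ?_⟩
    induction hx using closure_induction with
    | mem a ha =>
      refine subset_closure ?_
      show Nat.Coprime (orderOf (g * a * g⁻¹)) 2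
      rwa [← MulAut.conj_apply, MulEquiv.orderOf_eq]
    | one => simp
    | mul a b _ _ h1 h2 => rw [← conj_mul]; exact mul_mem h1 h2
    | inv a _ h1 => rw [← conj_inv]; exact inv_mem h1
  rcases hm.simple.eq_bot_or_eq_top_of_normal _ hN with h | h
  swap
  · exact h
  exfalso
  have hp : IsPGroup 2 G := by
    intro x
    obtain ⟨k, m, hm', hk⟩ := Nat.exists_eq_pow_mul_and_not_dvd (orderOf_pos x).ne' 2 (by norm_num)
    refine ⟨k, ?_⟩
    have hy : orderOf (x ^ 2 ^ k) = m := by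
      rw [orderOf_pow_of_dvd (by positivity) (hk ▸ dvd_mul_right _ _), hk,
        Nat.mul_div_cancel_left _ (Nat.two_pow_pos k)]
    have : x ^ 2 ^ k ∈ Cfsg.pResidual 2 G := subset_closure (by
      show Nat.Coprime (orderOf (x ^ 2 ^ k)) 2
      rw [hy]
      exact ((Nat.prime_two.coprime_iff_not_dvd).2 hm').symm)
    rwa [h, mem_bot] at this
  haveI := hp.isNilpotent
  exact hm.nonab ⟨⟨fun a b => (IsSimpleGroup.comm_iff_isSolvable.2 inferInstance) a b⟩⟩

theorem Minimal.one_class (hm : Minimal G) {x y : G} (hx : orderOf x = 2) (hy : orderOf y = 2) : IsConj x y := by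
  obtain ⟨P⟩ : Nonempty (Sylow 2 G) := inferInstance
  obtain ⟨m, hm4, ⟨e⟩⟩ := hm.sylow P
  obtain ⟨-, k, rfl⟩ := dihedral_data P (by omega) ⟨e⟩
  have hk : 2 ≤ k + 1 := by
    rcases k with _ | k
    · norm_num at hm4
    · omega
  obtain ⟨g, hg⟩ := Cfsg.Agent.S0107.result P (k + 1) hk ⟨e⟩ hm.pResidual_top x y hx hy
  exact isConj_iff.2 ⟨g, hg⟩

/-- In a dihedral Sylow 2-subgroup every four-group has a rotation. -/
theorem exists_rotation {P : Sylow 2 G} {s r : G} {m : ℕ} (d : Cfsg.Lib.Dihedral.Data P s r m)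
    (hone : ∀ a b : G, orderOf a = 2 → orderOf b = 2 → IsConj a b) {v : G} (hv : v ∈ (P : Subgroup G))
    (hvs : v ∉ zpowers s) : ∃ g : G, g * s ^ 2 ^ (m - 1) * g⁻¹ = v ∧ g * v * g⁻¹ = s ^ 2 ^ (m - 1) * v := by
  haveI : Fact (Nat.Prime 2) := ⟨Nat.prime_two⟩
  set t := s ^ 2 ^ (m - 1) with ht
  have htP : t ∈ (P : Subgroup G) := pow_mem d.mem_left _
  have ht2 : orderOf t = 2 := d.orderOf_J
  have hv1 : v ≠ 1 := fun e => hvs (e ▸ one_mem _)
  have hv2 : orderOf v = 2 := orderOf_eq_prime (by rw [pow_two]; exact (d.reflection hv hvs).1) hv1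
  -- the element of order four fixes `t` and moves each reflection to its product with `t`
  set a := s ^ 2 ^ (m - 2) with ha
  have haa : a * a = t := by
    rw [ha, ← pow_add, ht]
    congr 1
    have := d.two_le
    rw [← two_mul, ← pow_succ']; congr 1; omega
  have hat : a * t * a⁻¹ = t := by rw [ht, ha]; group
  have hswap : ∀ w ∈ (P : Subgroup G), w ∉ zpowers s → a * w * a⁻¹ = t * w := by
    intro w hw hws
    have h := (d.reflection hw hws).2 a ⟨(2 ^ (m - 2) : ℕ), zpow_natCast s _⟩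
    have hwi : w⁻¹ = w := inv_eq_of_mul_eq_one_right (d.reflection hw hws).1
    calc a * w * a⁻¹ = a * w * (w * a * w⁻¹) := by rw [h]
      _ = a * (w * w) * a * w⁻¹ := by group
      _ = t * w := by rw [(d.reflection hw hws).1, mul_one, haa, hwi]
  -- a conjugate of the Sylow subgroup centred at `v` contains `t`
  obtain ⟨c, hc⟩ := isConj_iff.1 (hone t v ht2 hv2)
  set C := centralizer ({v} : Set G)
  have hcP : (c • P : Sylow 2 G).1 ≤ C := by
    intro x hx
    have hx' : x ∈ MulAut.conj c • (P : Subgroup G) := hx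
    rw [mem_pointwise_smul_iff_inv_smul_mem, ← map_inv] at hx'
    have h1 : Commute (c⁻¹ * x * c) t := d.J_central _ (by simpa using hx')
    have h2 := h1.map (MulAut.conj c).toMonoidHom
    simp only [MulEquiv.coe_toMonoidHom, MulAut.conj_apply, hc] at h2
    rw [show c * (c⁻¹ * x * c) * c⁻¹ = x by group] at h2
    exact mem_centralizer_singleton_iff.2 h2.eq
  have htC : t ∈ C := mem_centralizer_singleton_iff.2 (d.J_central v hv).symm.eq
  obtain ⟨R, hR⟩ := ((IsPGroup.of_card (G := zpowers t) (p := 2) (n := 1)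
    (by rw [Nat.card_zpowers, ht2, pow_one])).of_equiv
      (subgroupOfEquivOfLe (zpowers_le.2 htC)).symm).exists_le_sylow
  obtain ⟨y, hy⟩ := MulAction.exists_smul_eq C ((c • P : Sylow 2 G).subtype hcP) R
  have htR : t ∈ (((y : G) * c) • P : Sylow 2 G).1 := by
    have h : (⟨t, htC⟩ : C) ∈ (R : Subgroup C) := hR (mem_subgroupOf.2 (mem_zpowers t))
    rw [← hy] at h
    have h' : (⟨t, htC⟩ : C) ∈ MulAut.conj y • (((c • P : Sylow 2 G).subtype hcP : Sylow 2 C) : Subgroup C) := h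
    rw [mem_pointwise_smul_iff_inv_smul_mem, ← map_inv, Sylow.coe_subtype, mem_subgroupOf] at h'
    have h'' : (y : G)⁻¹ * t * y ∈ MulAut.conj c • (P : Subgroup G) := by
      rw [← Sylow.coe_subgroup_smul]; simpa using h'
    show t ∈ MulAut.conj ((y : G) * c) • (P : Subgroup G)
    rw [map_mul, mul_smul, mem_pointwise_smul_iff_inv_smul_mem, ← map_inv]
    simpa using h''
  set e := (y : G) * c with he
  have hev : e * t * e⁻¹ = v := by
    rw [he, show (y : G) * c * t * ((y : G) * c)⁻¹ = (y : G) * (c * t * c⁻¹) * (y : G)⁻¹ by group, hc]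
    exact mul_inv_eq_iff_eq_mul.2 (mem_centralizer_singleton_iff.1 y.2)
  set w := e⁻¹ * t * e with hw
  have hwP : w ∈ (P : Subgroup G) := by
    have h : t ∈ MulAut.conj e • (P : Subgroup G) := htR
    rw [mem_pointwise_smul_iff_inv_smul_mem, ← map_inv] at h
    simpa using h
  have hw2 : orderOf w = 2 := by
    rw [hw, show e⁻¹ * t * e = MulAut.conj e⁻¹ t by simp, MulEquiv.orderOf_eq, ht2]
  have hws : w ∉ zpowers s := fun h => by
    rcases d.sq_zpowers h (by rw [← pow_two, ← hw2, pow_orderOf_eq_one]) with h' | h'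
    · rw [h', orderOf_one] at hw2; omega
    · refine hvs (?_ : v ∈ zpowers s)
      have htv : t = v := by
        rw [← hev]
        calc t = e * w * e⁻¹ := by rw [hw]; group
          _ = e * t * e⁻¹ := by rw [h']
      exact htv ▸ ⟨(2 ^ (m - 1) : ℕ), zpow_natCast s _⟩
  set b := e * a * e⁻¹ with hb
  have hbv : b * v * b⁻¹ = v := by
    rw [hb, ← hev, show e * a * e⁻¹ * (e * t * e⁻¹) * (e * a * e⁻¹)⁻¹ = e * (a * t * a⁻¹) * e⁻¹ by group, hat]
  have hbt : b * t * b⁻¹ = v * t := by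
    rw [hb, show e * a * e⁻¹ * t * (e * a * e⁻¹)⁻¹ = e * (a * (e⁻¹ * t * e) * a⁻¹) * e⁻¹ by group, ← hw,
      hswap w hwP hws, ← conj_mul, hev, hw]
    group
  have htt : t * t = 1 := by rw [← pow_two, ← ht2, pow_orderOf_eq_one]
  refine ⟨a * b, ?_, ?_⟩
  · rw [show a * b * t * (a * b)⁻¹ = a * (b * t * b⁻¹) * a⁻¹ by group, hbt, ← conj_mul, hswap v hv hvs, hat]
    rw [show t * v * t = t * (v * t) by group, (d.J_central v hv).eq, ← mul_assoc, htt, one_mul]
  · rw [show a * b * v * (a * b)⁻¹ = a * (b * v * b⁻¹) * a⁻¹ by group, hbv, hswap v hv hvs]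

/-- A minimal configuration has a frame. -/
theorem nonempty_frame (hm : Minimal G) : Nonempty (Frame G) := by
  haveI : Fact (Nat.Prime 2) := ⟨Nat.prime_two⟩
  obtain ⟨P⟩ : Nonempty (Sylow 2 G) := inferInstance
  letI := Fintype.ofFinite G
  obtain ⟨M, hM4, ⟨e⟩⟩ := hm.sylow P
  obtain ⟨hc, k, rfl⟩ := dihedral_data P (by omega) ⟨e⟩
  have hk : 2 ≤ k + 1 := by
    rcases k with _ | k
    · norm_num at hM4
    · omega
  haveI : NeZero (2 ^ (k + 1)) := ⟨by positivity⟩
  have hso : orderOf ((e.symm (DihedralGroup.r 1) : (P : Subgroup G)) : G) = 2 ^ (k + 1) := by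
    rw [orderOf_coe, MulEquiv.orderOf_eq, DihedralGroup.orderOf_r_one]
  set s := ((e.symm (DihedralGroup.r 1) : (P : Subgroup G)) : G) with hs
  obtain ⟨r, d⟩ := Cfsg.Lib.Dihedral.exists_data P hk e s (SetLike.coe_mem _) hso
  have hone : ∀ a b : G, orderOf a = 2 → orderOf b = 2 → IsConj a b := fun _ _ => hm.one_class
  have hrs : r * s ∈ (P : Subgroup G) := mul_mem d.mem_right d.mem_left
  have hrs' : r * s ∉ zpowers s := fun h =>
    d.tau_not_mem ((Subgroup.mul_mem_cancel_right _ (mem_zpowers s)).1 h)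
  obtain ⟨g₁, h11, h12⟩ := exists_rotation d hone d.mem_right d.tau_not_mem
  obtain ⟨g₂, h21, h22⟩ := exists_rotation d hone hrs hrs'
  have e1 : k + 1 + 1 - 1 = k + 1 := by omega
  have e2 : k + 1 + 1 - 2 = k + 1 - 1 := by omega
  refine ⟨⟨k + 1 + 1, s, r, g₁, g₂, by omega, by rw [hso, e1], ?_, d.rel, fun Q => ?_, ?_, ?_, ?_, ?_⟩⟩
  · exact orderOf_eq_prime (by rw [pow_two]; exact d.sq) fun e => d.tau_not_mem (e ▸ one_mem _)
  · rw [Nat.card_congr (Q.equiv P).toEquiv, hc, pow_succ' 2 (k + 1)]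
  all_goals rw [e2]
  exacts [h11, h12, h21, h22]

namespace Frame

variable (F : Frame G)

theorem s_mem_S : F.s ∈ F.S := subset_closure (by simp)

theorem r_mem_S : F.r ∈ F.S := subset_closure (by simp)

theorem t_mem_S : F.t ∈ F.S := pow_mem F.s_mem_S _

theorem S_cases {u : G} (hu : u ∈ F.S) : u ∈ zpowers F.s ∨ u * F.r ∈ zpowers F.s := by
  have hr : F.r⁻¹ = F.r := inv_of_two F.r_order
  have hr2 : F.r * F.r = 1 := mul_self_of_two F.r_order
  have hconj : ∀ w ∈ zpowers F.s, F.r * w * F.r ∈ zpowers F.s := by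
    rintro w ⟨i, rfl⟩
    have : F.r * F.s ^ i * F.r⁻¹ = (F.s ^ i)⁻¹ := by rw [← conj_zpow, F.rel, inv_zpow]
    rw [hr] at this
    simp only [this]
    exact inv_mem ⟨i, rfl⟩
  induction hu using closure_induction with
  | mem x hx =>
    rcases hx with rfl | rfl
    · exact Or.inl (mem_zpowers _)
    · exact Or.inr (by rw [hr2]; exact one_mem _)
  | one => exact Or.inl (one_mem _)
  | mul a b _ _ ha hb =>
    rcases ha with ha | ha <;> rcases hb with hb | hb
    · exact Or.inl (mul_mem ha hb)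
    · exact Or.inr (by rw [mul_assoc]; exact mul_mem ha hb)
    · refine Or.inr ?_
      rw [show a * b * F.r = (a * F.r) * (F.r⁻¹ * b * F.r) by group, hr]
      exact mul_mem ha (hconj _ hb)
    · refine Or.inl ?_
      rw [show a * b = (a * F.r) * (F.r⁻¹ * (b * F.r) * F.r⁻¹) by group, hr]
      exact mul_mem ha (hconj _ hb)
  | inv a _ ha =>
    rcases ha with ha | ha
    · exact Or.inl (inv_mem ha)
    · refine Or.inr ?_
      rw [show a⁻¹ * F.r = F.r * (a * F.r)⁻¹ * F.r by rw [mul_inv_rev, hr, ← mul_assoc, hr2, one_mul]]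
      exact hconj _ (inv_mem ha)

theorem isPGroup_S : IsPGroup 2 F.S := by
  haveI : Fact (Nat.Prime 2) := ⟨Nat.prime_two⟩
  have hnorm : F.S ≤ normalizer (zpowers F.s : Set G) := by
    rw [S, closure_le]
    rintro x (rfl | rfl)
    · exact le_normalizer (mem_zpowers _)
    · rw [zpowers_eq_closure]
      refine Cfsg.Lib.GenDihedral.mem_normalizer_closure fun w hw => ?_
      rw [Set.mem_singleton_iff.1 hw, F.rel]
      exact inv_mem (subset_closure rfl)
  have hle : F.S ≤ zpowers F.r ⊔ zpowers F.s := (closure_le _).2 (by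
    rintro x (rfl | rfl)
    · exact mem_sup_right (mem_zpowers _)
    · exact mem_sup_left (mem_zpowers _))
  exact (IsPGroup.to_sup_of_normal_right' (IsPGroup.of_card (n := 1) (by rw [Nat.card_zpowers, F.r_order, pow_one]))
    (IsPGroup.of_card (n := F.n - 1) (by rw [Nat.card_zpowers, F.s_order]))
    (zpowers_le.2 (hnorm F.r_mem_S))).to_le hle

theorem r_not_mem_zpowers : F.r ∉ zpowers F.s := fun h => by
  obtain ⟨i, hi⟩ := mem_zpowers_iff.1 h
  have hrel := F.rel
  rw [← hi, show F.s ^ i * F.s * (F.s ^ i)⁻¹ = F.s by group] at hrel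
  have h2 : F.s ^ 2 = 1 := by rw [pow_two]; exact mul_eq_one_iff_eq_inv.2 hrel
  have := Nat.le_of_dvd two_pos (orderOf_dvd_of_pow_eq_one h2)
  rw [F.s_order] at this
  have h3 := F.three_le
  have := Nat.pow_le_pow_right two_pos (show 2 ≤ F.n - 1 by omega)
  omega

theorem card_S : Nat.card F.S = 2 ^ F.n := by
  haveI : Fact (Nat.Prime 2) := ⟨Nat.prime_two⟩
  obtain ⟨P, hP⟩ := F.isPGroup_S.exists_le_sylow
  obtain ⟨j, hj⟩ := IsPGroup.iff_card.1 F.isPGroup_S
  have hjn : j ≤ F.n :=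
    (Nat.pow_dvd_pow_iff_le_right one_lt_two).1 (hj ▸ F.card_sylow P ▸ card_dvd_of_le hP)
  have hlt : zpowers F.s < F.S :=
    lt_of_le_of_ne (zpowers_le.2 F.s_mem_S) fun e => F.r_not_mem_zpowers (by rw [e]; exact F.r_mem_S)
  have := Cfsg.Lib.Coprime.eq_of_le_of_card_eq (H := zpowers F.s) (K := F.S) hlt.le
  have h1 : Nat.card (zpowers F.s) ≠ Nat.card F.S := fun e => hlt.ne (this e)
  have h2 := card_dvd_of_le hlt.le
  rw [Nat.card_zpowers, F.s_order, hj] at h1 h2
  have h3 : F.n - 1 ≤ j := (Nat.pow_dvd_pow_iff_le_right one_lt_two).1 h2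
  have h4 : j ≠ F.n - 1 := fun e => h1 (by rw [e])
  rw [hj]; congr 1; omega

/-- The Sylow subgroup. -/
noncomputable def sylow : Sylow 2 G := by
  haveI : Fact (Nat.Prime 2) := ⟨Nat.prime_two⟩
  refine Sylow.ofCard F.S ?_
  have h := (Classical.arbitrary (Sylow 2 G)).card_eq_multiplicity
  rw [F.card_sylow] at h
  rw [F.card_S, h]

theorem coe_sylow : ((F.sylow : Sylow 2 G) : Subgroup G) = F.S :=
  (Sylow.coe_ofCard _ _ : _)

theorem data : Cfsg.Lib.Dihedral.Data F.sylow F.s F.r (F.n - 1) where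
  two_le := by have := F.three_le; omega
  mem_left := by rw [F.coe_sylow]; exact F.s_mem_S
  mem_right := by rw [F.coe_sylow]; exact F.r_mem_S
  order := F.s_order
  sq := mul_self_of_two F.r_order
  rel := F.rel
  cases := fun u hu => F.S_cases (by rwa [F.coe_sylow] at hu)

theorem t_eq : F.s ^ 2 ^ (F.n - 1 - 1) = F.t := by
  rw [Frame.t, Nat.sub_sub]

theorem S_comm_t {u : G} (hu : u ∈ F.S) : u * F.t = F.t * u := by
  have := F.data.J_central u (by rwa [F.coe_sylow])
  rw [F.t_eq] at this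
  exact this.eq

theorem mem_C {x : G} : x ∈ F.C ↔ x * F.t = F.t * x := mem_centralizer_singleton_iff

theorem S_le_C : F.S ≤ F.C := fun _ hu => F.mem_C.2 (F.S_comm_t hu)

theorem O_le : F.O ≤ F.C := core_le _

theorem C_le_normalizer_O : F.C ≤ normalizer (F.O : Set G) := le_normalizer_core _

theorem odd_card_O : Odd (Nat.card F.O) := Cfsg.Lib.GW.Frame.odd_card_core _

theorem C_structure : ∀ x ∈ F.C, ∃ l ∈ F.O, ∃ u ∈ F.S, x = l * u := by
  haveI : Fact (Nat.Prime 2) := ⟨Nat.prime_two⟩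
  letI := Fintype.ofFinite G
  obtain ⟨hcomp, hfac⟩ := F.data.centralizer_J
  rw [F.t_eq] at hcomp hfac
  obtain ⟨L, hL, -, hdec⟩ := Cfsg.Lib.Dihedral.exists_oddPart _ hcomp
  have hLC : L ≤ F.C := fun x hx => ((hL x).1 hx).1
  have hLO : L ≤ F.O := by
    haveI : (L.subgroupOf F.C).Normal := ⟨fun x hx g => by
      rw [mem_subgroupOf, hL] at hx ⊢
      refine ⟨SetLike.coe_mem _, ?_⟩
      have : orderOf ((g * x * g⁻¹ : F.C) : G) = orderOf ((x : F.C) : G) := by
        rw [Subgroup.coe_mul, Subgroup.coe_mul, Subgroup.coe_inv, ← MulAut.conj_apply, MulEquiv.orderOf_eq]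
      rw [this]; exact hx.2⟩
    intro x hx
    refine ⟨⟨x, hLC hx⟩, ?_, rfl⟩
    refine Cfsg.Lib.Components.le_pPrimeCore (p := 2) (N := L.subgroupOf F.C)
      (Nat.coprime_two_right.2 ?_) (mem_subgroupOf.2 hx)
    rw [Nat.card_congr (subgroupOfEquivOfLe hLC).toEquiv]
    by_contra h
    obtain ⟨a, ha⟩ := exists_prime_orderOf_dvd_card' (G := L) 2
      (even_iff_two_dvd.1 (Nat.not_odd_iff_even.1 h))
    exact ((hL a).1 a.2).2 (by rw [orderOf_coe, ha])
  intro x hx
  obtain ⟨l, hl, u, hu, e⟩ := hdec F.S F.S_le_C F.isPGroup_S (by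
    rw [F.card_S, show Nat.card (centralizer ({F.t} : Set G)) = Nat.card F.C from rfl] at *
    rw [hfac]
    congr 1
    have := F.three_le
    omega) x hx
  exact ⟨l, hLO hl, u, hu, e⟩

theorem C_eq : F.C = F.O ⊔ F.S :=
  le_antisymm (fun x hx => by
    obtain ⟨l, hl, u, hu, rfl⟩ := F.C_structure x hx
    exact mul_mem_sup hl hu) (sup_le F.O_le F.S_le_C)

theorem O_inf_S : F.O ⊓ F.S = ⊥ := by
  refine inf_eq_bot_of_coprime ?_
  rw [F.card_S]
  exact (Nat.coprime_two_right.2 F.odd_card_O).pow_right _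

theorem card_C : Nat.card F.C = 4 * F.m := by
  have h : Nat.card F.C = Nat.card F.O * Nat.card F.S := by
    rw [F.C_eq]
    exact Cfsg.Lib.Coprime.card_sup_of_inf_eq_bot (F.S_le_C.trans F.C_le_normalizer_O) F.O_inf_S
  rw [h, F.card_S, Frame.m]
  obtain ⟨k, hk⟩ : ∃ k, F.n = k + 2 := ⟨F.n - 2, by have := F.three_le; omega⟩
  rw [hk, Nat.add_sub_cancel, pow_add]
  ring

/-- `O` consists of the elements of odd order centralising `t`. -/
theorem mem_O {x : G} : x ∈ F.O ↔ x * F.t = F.t * x ∧ Odd (orderOf x) := by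
  refine ⟨fun h => ⟨F.mem_C.1 (F.O_le h), Cfsg.Lib.GW.Frame.odd_orderOf F.odd_card_O h⟩, fun ⟨hc, ho⟩ => ?_⟩
  haveI : (F.O.subgroupOf F.C).Normal := normal_subgroupOf_of_le_normalizer F.C_le_normalizer_O
  have hodd : Odd (orderOf (QuotientGroup.mk' (F.O.subgroupOf F.C) ⟨x, F.mem_C.2 hc⟩)) :=
    ho.of_dvd_nat ((orderOf_map_dvd _ _).trans (by rw [Subgroup.orderOf_mk]))
  have hcard : Nat.card (F.C ⧸ F.O.subgroupOf F.C) = 2 ^ F.n := by
    have h := (F.O.subgroupOf F.C).card_eq_card_quotient_mul_card_subgroup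
    rw [Nat.card_congr (subgroupOfEquivOfLe F.O_le).toEquiv, F.card_C, Frame.m] at h
    obtain ⟨k, hk⟩ : ∃ k, F.n = k + 2 := ⟨F.n - 2, by have := F.three_le; omega⟩
    rw [hk, Nat.add_sub_cancel] at h
    refine Nat.eq_of_mul_eq_mul_right (m := Nat.card F.O) Nat.card_pos ?_
    rw [← h, hk, pow_add]; ring
  have hd := orderOf_dvd_natCard (QuotientGroup.mk' (F.O.subgroupOf F.C) ⟨x, F.mem_C.2 hc⟩)
  rw [hcard] at hd
  have h1 : orderOf (QuotientGroup.mk' (F.O.subgroupOf F.C) ⟨x, F.mem_C.2 hc⟩) = 1 :=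
    Nat.Coprime.eq_one_of_dvd ((Nat.coprime_two_right.2 hodd).pow_right F.n) hd
  rw [orderOf_eq_one_iff, QuotientGroup.mk'_apply, QuotientGroup.eq_one_iff, mem_subgroupOf] at h1
  exact h1

theorem four₁_O : F.four₁.O = F.O := rfl

theorem four₂_O : F.four₂.O = F.O := rfl

/-- The same Sylow subgroup with the two four-groups exchanged. -/
@[reducible] def flip : Frame G where
  n := F.n
  s := F.s
  r := F.r * F.s
  σ₁ := F.σ₂
  σ₂ := F.s⁻¹ * F.σ₁ * F.s
  three_le := F.three_le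
  s_order := F.s_order
  r_order := F.rs_order
  rel := by
    rw [show F.r * F.s * F.s * (F.r * F.s)⁻¹ = F.r * F.s * F.r⁻¹ by group, F.rel]
  card_sylow := F.card_sylow
  σ₁_t := F.σ₂_t
  σ₁_r := F.σ₂_r
  σ₂_t := by
    have h : F.s⁻¹ * F.r * F.s = F.r * F.s * F.s := by
      have := F.rel
      rw [mul_inv_eq_iff_eq_mul] at this
      rw [← this]
    rw [show F.s⁻¹ * F.σ₁ * F.s * F.s ^ 2 ^ (F.n - 2) * (F.s⁻¹ * F.σ₁ * F.s)⁻¹ =
      F.s⁻¹ * (F.σ₁ * F.s ^ 2 ^ (F.n - 2) * F.σ₁⁻¹) * F.s by group, F.σ₁_t, h]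
  σ₂_r := by
    have h : F.s⁻¹ * F.r * F.s = F.r * F.s * F.s := by
      have := F.rel
      rw [mul_inv_eq_iff_eq_mul] at this
      rw [← this]
    rw [← h, show F.s⁻¹ * F.σ₁ * F.s * (F.s⁻¹ * F.r * F.s) * (F.s⁻¹ * F.σ₁ * F.s)⁻¹ =
      F.s⁻¹ * (F.σ₁ * F.r * F.σ₁⁻¹) * F.s by group, F.σ₁_r]
    group

theorem flip_t : F.flip.t = F.t := rfl

theorem flip_O : F.flip.O = F.O := rfl

theorem flip_m : F.flip.m = F.m := rfl

theorem flip_w₁ : F.flip.w₁ = F.w₂ := rfl

end Frame

end Cfsg.Lib.GWD
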