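import Cfsg.Agent.GWDihedral.Setting
import Cfsg.Agent.Chars.Irr

/-!
# Dihedral Sylow 2-subgroups: the statements of the character layer

`LinearSpec` is for the abelian ending (`[O, r]` abelian), `LinearFixedSpec` and `InvertedSpec` are for the inverted
kind, where the rotations of the Sylow subgroup centralise `O`.  Each says that an invariant character of `O` is trivial.
-/

set_option autoImplicit false

namespace Cfsg.Lib.GWD

open scoped ComplexConjugate commutatorElement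

universe u

variable {G : Type u} [Group G]

namespace Frame

variable (F : Frame G)

/-- `[O, r]` abelian and moved by `C_O(r)`: an invariant linear character of `O` which is trivial on the images under
`σ₂` of `[O, r s] ∩ C_O(r s)` is trivial. -/
def LinearSpec : Prop :=
  (∀ y ∈ F.O, F.s ^ 2 * y = y * F.s ^ 2) → IsMulCommutative F.four₁.T → ⁅F.four₁.T, F.four₁.W⁆ ≠ ⊥ →
    ∀ θ : ↥F.O →* ℂˣ,
      (∀ a b : F.O, F.s * (a : G) * F.s⁻¹ = b → θ b = θ a) →
      (∀ a b : F.O, F.r * (a : G) * F.r⁻¹ = b → θ b = θ a) →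
      (∀ a b : F.O, (a : G) ∈ F.four₂.T → (a : G) ∈ F.four₂.W → F.σ₂ * (a : G) * F.σ₂⁻¹ = b → θ b = 1) →
        ∀ a : F.O, θ a = 1

/-- Inverted kind: if an element of prime order inverted by `r` lies in the derived subgroup of its centraliser in `O`,
an invariant linear character of `O` is trivial. -/
def LinearFixedSpec : Prop :=
  (∀ y ∈ F.O, F.s * y = y * F.s) →
    ∀ (p : ℕ) (z : G), p.Prime → z ∈ ⁅F.O ⊓ Subgroup.centralizer {z}, F.O ⊓ Subgroup.centralizer {z}⁆ →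
      z ^ p = 1 → z ≠ 1 → F.r * z * F.r⁻¹ = z⁻¹ →
        ∀ θ : ↥F.O →* ℂˣ, (∀ a b : F.O, F.r * (a : G) * F.r⁻¹ = b → θ b = θ a) → ∀ a : F.O, θ a = 1

/-- The group data of the degree bound: `A` is central in `O` and inverted by `r`, `O / K` is cyclic and inverted by
`r`, and the elements of `O` outside `K` and the non-trivial elements of `A` have centralisers inside `C`. -/
structure InvertedData (K A : Subgroup G) (z : G) (p : ℕ) : Prop where
  s_cent : ∀ y ∈ F.O, F.s * y = y * F.s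
  KO : K ≤ F.O
  AK : A ≤ K
  knorm : ∀ o ∈ F.O, ∀ k ∈ K, o * k * o⁻¹ ∈ K
  acent : ∀ a ∈ A, ∀ o ∈ F.O, a * o = o * a
  ainv : ∀ a ∈ A, F.r * a * F.r⁻¹ = a⁻¹
  kinv : ∀ o ∈ F.O, F.r * o * F.r⁻¹ * o ∈ K
  cyc : ∃ g ∈ F.O, ∀ o ∈ F.O, ∃ i : ℕ, (g ^ i)⁻¹ * o ∈ K
  hp : p.Prime
  zA : z ∈ A
  zp : z ^ p = 1
  z1 : z ≠ 1
  card : Nat.card K = p ^ 2 * Nat.card A
  nondeg : ∀ k ∈ K, k ∉ A →
    ∃ y ∈ K, y * k * y⁻¹ * k⁻¹ ∈ Subgroup.zpowers z ∧ y * k * y⁻¹ * k⁻¹ ≠ 1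
  cent : ∀ x ∈ F.O, (x ∉ K ∨ (x ∈ A ∧ x ≠ 1)) → ∀ c : G, c * x = x * c → c * F.t = F.t * c

/-- Inverted kind: no non-principal invariant irreducible character `θ` of `O` of small degree is trivial at `z` and
has a linear correspondent on `C_O(r)`. -/
def InvertedSpec : Prop :=
  ∀ (K A : Subgroup G) (z : G) (p : ℕ), F.InvertedData K A z p →
    ∀ (θ : Cfsg.IrrCharacter F.O) (ψ : ↥F.four₁.W →* ℂˣ),
      (∀ a b : F.O, F.r * (a : G) * F.r⁻¹ = b → (θ : F.O → ℂ) b = (θ : F.O → ℂ) a) →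
      (∀ a b : F.O, z * (a : G) = b → (θ : F.O → ℂ) b = (θ : F.O → ℂ) a) →
      (∃ n : ℕ, Odd n ∧ ∑ᶠ a : F.four₁.W,
        (θ : F.O → ℂ) (Subgroup.inclusion inf_le_left a) * conj (ψ a : ℂ) = (n : ℂ) * Nat.card F.four₁.W) →
      (θ : F.O → ℂ) ≠ (fun _ => 1) →
      p ^ 2 * (2 * Cfsg.Lib.Chars.deg (θ : F.O → ℂ) ^ 3 + 2) < (p - 1) * Nat.card F.O →
        False

end Frame

end Cfsg.Lib.GWD
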