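import Cfsg.Agent.GWDihedral.Assembly
import Cfsg.Agent.GWDihedral.CharSpec
import Cfsg.Agent.GWDihedral.Inverted.End
import Cfsg.Agent.GWDihedral.Kill.Abelian
import Cfsg.Agent.GWDihedral.Maximal.NoRot
import Cfsg.Agent.GWDihedral.Maximal.OneRot
import Cfsg.Agent.GWDihedral.Mixed.NoMixed

/-!
Simple groups with dihedral Sylow 2-subgroups: the theorem from the specifications still to be proved.
-/

set_option autoImplicit false

namespace Cfsg.Lib.GWD

universe u

/-- The dihedral theorem from the maximality of `C` and the three character statements. -/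
theorem dihedralProp_of_specs
    (hMax : ∀ (G : Type u) [Group G] [Finite G] (F : Frame G), Minimal G → F.NoRotSpec ∧ F.OneRotSpec)
    (hChar : ∀ (G : Type u) [Group G] [Finite G] (F : Frame G), Minimal G →
      F.LinearSpec ∧ F.LinearFixedSpec ∧ F.InvertedSpec) : DihedralProp.{u} :=
  dihedralProp_of_pieces fun G _ _ F hm => by
    obtain ⟨hN, h1⟩ := hMax G F hm
    obtain ⟨hL, hF, hI⟩ := hChar G F hm
    exact ⟨F.maximal_of_cases hm hN h1 (hMax G F.flip hm).2 (hMax G F.flip.flip hm).2, noMixed F hm, Inv.noInverted hm hF hI,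
      Kill.linearKill_of_spec F hm hL⟩

/-- The dihedral theorem from the three character statements. -/
theorem dihedralProp_of_chars
    (hChar : ∀ (G : Type u) [Group G] [Finite G] (F : Frame G), Minimal G →
      F.LinearSpec ∧ F.LinearFixedSpec ∧ F.InvertedSpec) : DihedralProp.{u} :=
  dihedralProp_of_specs (fun _ _ _ F hm => ⟨F.noRotSpec hm, F.oneRotSpec hm⟩) hChar

end Cfsg.Lib.GWD
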