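import Cfsg.Agent.GWDihedral.Shell.Reduce
import Cfsg.Agent.FourGroupGW.Setting
import Cfsg.Agent.GenDihedral.Setup

/-!
Simple groups with dihedral Sylow 2-subgroups of order at least eight: shared setting (notes/gw_dihedral_v1.md).

A `Frame` fixes a Sylow 2-subgroup `⟨s, r⟩` of order `2 ^ n`, its central involution `t` and, for each of the two
four-groups `⟨t, r⟩`, `⟨t, r * s⟩`, an element rotating its involutions.  Each of the four-groups with its rotation is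
a frame of the four-group case (`GW.Frame`), so `C`, `O`, `W`, `R p`, the kinds of primes are those of that file.
Each piece of the proof has its statement as a proposition below.
-/

set_option autoImplicit false

namespace Cfsg.Lib.GWD

open Subgroup
open Cfsg.Lib.GW (Core)

universe u

variable {G : Type u} [Group G]

/-- A Sylow 2-subgroup `⟨s, r⟩` of order `2 ^ n` and rotations of its two four-groups. -/
structure Frame (G : Type u) [Group G] where
  n : ℕ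
  s : G
  r : G
  σ₁ : G
  σ₂ : G
  three_le : 3 ≤ n
  s_order : orderOf s = 2 ^ (n - 1)
  r_order : orderOf r = 2
  rel : r * s * r⁻¹ = s⁻¹
  card_sylow : ∀ P : Sylow 2 G, Nat.card P = 2 ^ n
  σ₁_t : σ₁ * s ^ 2 ^ (n - 2) * σ₁⁻¹ = r
  σ₁_r : σ₁ * r * σ₁⁻¹ = s ^ 2 ^ (n - 2) * r
  σ₂_t : σ₂ * s ^ 2 ^ (n - 2) * σ₂⁻¹ = r * s
  σ₂_r : σ₂ * (r * s) * σ₂⁻¹ = s ^ 2 ^ (n - 2) * (r * s)

namespace Frame

variable (F : Frame G)

/-- The central involution of the Sylow 2-subgroup. -/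
def t : G := F.s ^ 2 ^ (F.n - 2)

theorem t_order : orderOf F.t = 2 := by
  have h3 := F.three_le
  have e : 2 ^ (F.n - 1) = 2 ^ (F.n - 2) * 2 := by rw [← pow_succ]; congr 1; omega
  rw [t, orderOf_pow_of_dvd (by positivity) (F.s_order ▸ e ▸ dvd_mul_right _ _), F.s_order, e,
    Nat.mul_div_cancel_left _ (Nat.two_pow_pos _)]

theorem rs_order : orderOf (F.r * F.s) = 2 := by
  refine orderOf_eq_prime ?_ ?_
  · have hr : F.r⁻¹ = F.r := by
      have h := pow_orderOf_eq_one F.r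
      rw [F.r_order, pow_two] at h
      exact inv_eq_of_mul_eq_one_right h
    calc (F.r * F.s) ^ 2 = F.r * F.s * F.r⁻¹ * F.s := by rw [hr, pow_two]; group
      _ = 1 := by rw [F.rel, inv_mul_cancel]
  · intro e
    have h := congrArg orderOf (eq_inv_of_mul_eq_one_right e)
    rw [orderOf_inv, F.s_order, F.r_order] at h
    have h3 := F.three_le
    have := Nat.pow_le_pow_right two_pos (show 2 ≤ F.n - 1 by omega)
    omega

theorem r_comm : F.t * F.r = F.r * F.t := by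
  have h2 := pow_orderOf_eq_one F.t
  rw [F.t_order, pow_two] at h2
  have h : F.r * F.t * F.r⁻¹ = F.t := by
    rw [t, ← conj_pow, F.rel, inv_pow]
    exact inv_eq_of_mul_eq_one_left h2
  exact (mul_inv_eq_iff_eq_mul.1 h).symm

theorem rs_comm : F.t * (F.r * F.s) = F.r * F.s * F.t := by
  rw [← mul_assoc, F.r_comm, mul_assoc, mul_assoc]
  congr 1
  exact ((Commute.refl F.s).pow_left _).eq

theorem t_ne_r : F.t ≠ F.r := fun e => by
  have h := F.rel
  rw [← e, t] at h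
  rw [show F.s ^ 2 ^ (F.n - 2) * F.s * (F.s ^ 2 ^ (F.n - 2))⁻¹ = F.s by group] at h
  have h2 : F.s ^ 2 = 1 := by rw [pow_two]; exact mul_eq_one_iff_eq_inv.2 h
  have := Nat.le_of_dvd two_pos (orderOf_dvd_of_pow_eq_one h2)
  rw [F.s_order] at this
  have h3 := F.three_le
  have := Nat.pow_le_pow_right two_pos (show 2 ≤ F.n - 1 by omega)
  omega

theorem t_ne_rs : F.t ≠ F.r * F.s := fun e => by
  have hc : F.r * F.s = F.s * F.r := by
    have h1 : F.t * F.s = F.s * F.t := ((Commute.refl F.s).pow_left _).eq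
    rw [e, mul_assoc, ← mul_assoc F.s F.r] at h1
    exact mul_right_cancel (b := F.s) (by rw [← h1, mul_assoc])
  have h := F.rel
  rw [hc, mul_inv_cancel_right] at h
  have h2 : F.s ^ 2 = 1 := by rw [pow_two]; exact mul_eq_one_iff_eq_inv.2 h
  have := Nat.le_of_dvd two_pos (orderOf_dvd_of_pow_eq_one h2)
  rw [F.s_order] at this
  have h3 := F.three_le
  have := Nat.pow_le_pow_right two_pos (show 2 ≤ F.n - 1 by omega)
  omega

/-- The four-group `⟨t, r⟩` with its rotation. -/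
@[reducible] def four₁ : Cfsg.Lib.GW.Frame G where
  t := F.t
  u := F.r
  σ := F.σ₁
  t_order := F.t_order
  u_order := F.r_order
  t_ne_u := F.t_ne_r
  comm := F.r_comm
  σ_t := F.σ₁_t
  σ_u := F.σ₁_r

/-- The four-group `⟨t, r * s⟩` with its rotation. -/
@[reducible] def four₂ : Cfsg.Lib.GW.Frame G where
  t := F.t
  u := F.r * F.s
  σ := F.σ₂
  t_order := F.t_order
  u_order := F.rs_order
  t_ne_u := F.t_ne_rs
  comm := F.rs_comm
  σ_t := F.σ₂_t
  σ_u := F.σ₂_r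

/-- The Sylow 2-subgroup. -/
def S : Subgroup G := closure {F.s, F.r}

/-- The centraliser of `t`. -/
def C : Subgroup G := centralizer {F.t}

/-- The odd core of the centraliser of `t`. -/
def O : Subgroup G := Core F.C

/-- `O` extended by the rotations, of order `2 ^ (n - 1) |O|`. -/
def Op : Subgroup G := F.O ⊔ zpowers F.s

/-- `|C| = 4 m`. -/
noncomputable def m : ℕ := 2 ^ (F.n - 2) * Nat.card F.O

/-- `w₁ = |C_O(r)|`. -/
noncomputable def w₁ : ℕ := Nat.card F.four₁.W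

/-- `w₂ = |C_O(r * s)|`. -/
noncomputable def w₂ : ℕ := Nat.card F.four₂.W

/-! ### Piece A: what the principal block gives -/

/-- The two identities: `ξ`, `D`, `E` are the signed degrees of three characters of the principal 2-block. -/
structure Degrees (ξ D E : ℤ) : Prop where
  mod_eight : (8 : ℤ) ∣ ξ - 1
  ne_one : ξ ≠ 1
  three_le : 3 ≤ |ξ| ∧ 3 ≤ |D| ∧ 3 ≤ |E|
  sum : D + E = -(ξ + 1)
  dvd : ξ ∣ (Nat.card G : ℤ) ∧ D ∣ (Nat.card G : ℤ) ∧ E ∣ (Nat.card G : ℤ)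
  order : (Nat.card G : ℚ) * ((ξ : ℚ) - 1) ^ 2 * ((F.w₁ : ℚ) * F.w₂) ^ 2 =
    8 * (F.m : ℚ) ^ 3 * (F.w₁ + F.w₂) ^ 2 * (ξ * (ξ + 1))
  second : (Nat.card G : ℚ) * (1 + 1 / (ξ : ℚ) + 1 / (D : ℚ) + 1 / (E : ℚ)) * ((F.w₁ : ℚ) * F.w₂) =
    32 * (F.m : ℚ) ^ 3

/-- The principal block data exist. -/
def DegreeSpec : Prop := ∃ ξ D E : ℤ, F.Degrees ξ D E

/-- The order of `G` lies between `21/4` and `45/4` of `m³ (1/w₁ + 1/w₂)²`, and the ratio of `w₁`, `w₂` is less
than nine. -/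
structure Bounds : Prop where
  lower : 21 * (F.m : ℚ) ^ 3 * (F.w₁ + F.w₂) ^ 2 ≤ 4 * Nat.card G * ((F.w₁ : ℚ) * F.w₂) ^ 2
  upper : 4 * (Nat.card G : ℚ) * ((F.w₁ : ℚ) * F.w₂) ^ 2 ≤ 45 * (F.m : ℚ) ^ 3 * (F.w₁ + F.w₂) ^ 2
  ratio : F.w₁ < 9 * F.w₂ ∧ F.w₂ < 9 * F.w₁

end Frame

/-! ### Piece B: proper subgroups containing a four-group (stated for every four-group with a rotation) -/

variable (V : Cfsg.Lib.GW.Frame G)

/-- `H` contains the four-group and an element rotating its involutions. -/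
def Rot (H : Subgroup G) : Prop :=
  V.U ≤ H ∧ ∃ g ∈ H, g * V.t * g⁻¹ = V.u ∧ g * V.u * g⁻¹ = V.t * V.u

/-- A proper subgroup rotating the four-group: order formula, index and torus of `t`.  For the top `PSL(2, q)` or
`PGL(2, q)` extended by field automorphisms `T` is the odd part of `(q - ε) / 2` and `Q = q (q + ε) / 2`; for the
tops `A₄`, `S₄` they are `1` and `3`; for `A₇`, `Q = 105` and `T` is `1` or `3`.  `2 ^ a` is the 2-part of `|H|`. -/
structure DTop (H : Subgroup G) (a T Q : ℕ) : Prop where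
  a_two : 2 ≤ a
  T_odd : Odd T
  Q_bound : (4 * T - 1) * (2 * T - 1) ≤ Q
  two_part : (Nat.card H).factorization 2 = a
  order : Nat.card H * Nat.card ↥(H ⊓ V.W) ^ 2 * T ^ 2 = 2 ^ a * Nat.card ↥(H ⊓ V.O) ^ 3 * Q
  index : (Core H ⊔ (H ⊓ V.C)).relIndex H = Q
  torus : ∀ K : Subgroup G, K ≤ H ⊓ V.O → (∀ k ∈ K, V.u * k * V.u⁻¹ * k ∈ Core H) →
    (Core H).relIndex K ∣ T ∧ ∃ g ∈ K, K ≤ zpowers g ⊔ Core H
  inverted_comm : ∀ x ∈ H ⊓ V.O, ∀ y ∈ H ⊓ V.O, V.u * x * V.u⁻¹ = x⁻¹ → V.u * y * V.u⁻¹ = y⁻¹ →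
    x * y * x⁻¹ * y⁻¹ ∈ Core H
  Q_full : (∀ K : Subgroup H, K.index ≠ 2) → (2 ^ a * T - 1) * (2 ^ a * T - 2) ≤ 2 * Q ∨ (T = 3 ∧ Q = 105 ∧ a = 3)
  centralizer_le : (T = 3 ∧ Q = 105 ∧ ∃ v ∈ H, orderOf v = 2 ∧ v ≠ V.t ∧ v * V.t = V.t * v ∧
      ∀ x ∈ H ⊓ V.O, v * x * v⁻¹ * x⁻¹ ∈ Core H) ∨ ∀ x ∈ H ⊓ V.O, x ∉ Core H → V.u * x * V.u⁻¹ * x ∈ Core H →
    H ⊓ centralizer {x} ≤ Core H ⊔ (H ⊓ V.C)

/-- Every proper subgroup rotating the four-group has a top. -/
def TopSpec : Prop := ∀ H : Subgroup G, H ≠ ⊤ → Rot V H → ∃ a T Q : ℕ, DTop V H a T Q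

/-- A proper subgroup containing but not rotating the four-group is 2-nilpotent, or has a subgroup of index two
which omits the four-group and rotates another one. -/
def SplitSpec : Prop :=
  ∀ H : Subgroup G, H ≠ ⊤ → V.U ≤ H → ¬ Rot V H →
    IsPGroup 2 (H ⧸ Cfsg.oddCore H) ∨ ∃ (V' : Cfsg.Lib.GW.Frame G) (K : Subgroup G),
      Rot V' K ∧ K ≤ H ∧ H ≤ normalizer (K : Set G) ∧ K.relIndex H = 2 ∧ ¬ V.U ≤ K

/-- A proper subgroup with `F* ≠ F` has a perfect component meeting the four-group and centralising the odd core;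
if the component contains the four-group it rotates it. -/
def CompSpec : Prop :=
  ∀ H : Subgroup G, H ≠ ⊤ → V.U ≤ H → Cfsg.generalizedFittingSubgroup H ≠ Cfsg.fittingSubgroup H →
    ∃ L : Subgroup G, L ≤ H ∧ H ≤ normalizer (L : Set G) ∧ ⁅L, L⁆ = L ∧ V.U ⊓ L ≠ ⊥ ∧
      Core H ≤ centralizer (L : Set G) ∧ (V.U ≤ L → Rot V H)

/-- All that piece B gives. -/
structure ProperSpec : Prop where
  top : TopSpec V
  split : SplitSpec V
  comp : CompSpec V
  odd : V.OddSpec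

/-! ### Piece E: the local facts -/

/-- The local facts at a prime with `O_p(O) ≠ 1` and a moved Sylow subgroup of `O`. -/
structure LocalSpec (p : ℕ) (S : Subgroup G) : Prop where
  sylow : ∃ P : Sylow p G, (P : Subgroup G) = S
  cent_inv : ∀ P : Subgroup G, IsPGroup p P → V.U ≤ normalizer (P : Set G) →
    ∃ s ∈ V.U, s ≠ 1 ∧ P ≤ centralizer {s}
  core_fixed : ∀ H : Subgroup G, H ≠ ⊤ → Rot V H → ∀ P : Subgroup G, IsPGroup p P → P ≤ Core H →
    V.U ≤ normalizer (P : Set G) → P ≤ centralizer (V.U : Set G)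
  fusing_centralizer : ∀ A : Subgroup G, A ≤ V.W → IsPGroup p A → A ≠ ⊥ → Rot V (centralizer (A : Set G))
  inverted_cyclic : ∀ A : Subgroup G, A ≤ V.W → A ≤ S → A ≠ ⊥ →
    ∃ g ∈ S ⊓ centralizer (A : Set G), V.u * g * V.u⁻¹ = g⁻¹ ∧
      ∀ x ∈ S ⊓ centralizer (A : Set G), V.u * x * V.u⁻¹ = x⁻¹ → x ∈ zpowers g

namespace Frame

variable (F : Frame G)

/-! ### Pieces 1–3: a maximal subgroup over `C` -/

/-- Unless `G` is known, `C` is a maximal subgroup. -/
def Maximal : Prop := F.four₁.W ≠ ⊥ ∨ F.four₂.W ≠ ⊥ → IsDihType G ∨ IsCoatom F.C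

/-- The local facts at both four-groups, at a prime where both reflections move the Sylow subgroup. -/
def Local : Prop :=
  IsCoatom F.C → ∀ (p : ℕ) (S : Subgroup G), p.Prime → F.four₁.R p ≠ ⊥ → F.four₁.MovedSylow p S →
    F.four₂.MovedSylow p S → F.S ≤ normalizer (S : Set G) → LocalSpec F.four₁ p S ∧ LocalSpec F.four₂ p S

/-! ### Pieces C, D: the kinds of primes; the four-group is the one with the smaller centraliser in `O` -/

/-- The mixed kind and kind (i). -/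
def NoMixed : Prop :=
  F.w₁ ≤ F.w₂ → F.four₁.W ≠ ⊥ → IsCoatom F.C → ∀ p, ¬ F.four₁.KindMixed p ∧ ¬ F.four₁.KindI p

/-- The inverted kind. -/
def NoInverted : Prop :=
  F.w₁ ≤ F.w₂ → F.four₁.W ≠ ⊥ → IsCoatom F.C → ∀ p, F.four₁.KindS p → F.four₁.KindMixed p

/-- No prime of either kind. -/
def LinearKill : Prop :=
  F.w₁ ≤ F.w₂ → IsCoatom F.C → IsMulCommutative F.four₁.T → F.four₁.W = ⊥

end Frame

end Cfsg.Lib.GWD
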